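import Groth.Agent.Lib.PicLift19.Top
import Groth.Agent.Lib.PicThick4.Main
import Groth.Agent.Lib.PicCoc15.Basic
import Groth.Prelude.Def_Pic

/-! Invertible modules lift from a closed subscheme of dimension one meeting every closed connected set. -/

set_option autoImplicit false
set_option maxHeartbeats 1600000
set_option linter.style.haveILetI false
set_option backward.isDefEq.respectTransparency false
set_option backward.isDefEq.respectTransparency.types false
universe u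

open CategoryTheory AlgebraicGeometry TopologicalSpace Opposite

namespace Groth.Agent.PicLift19

open Groth.Agent
open Groth.Agent.PicThick4 (rs rs_rs app_rs)

variable {X₀ : Scheme.{u}}

theorem mem_basicOpen_iff {D : X₀.Opens} (hD : IsAffineOpen D) (z : D) (s : Γ(X₀, D)) :
    z.1 ∈ X₀.basicOpen s ↔ s ∉ (hD.primeIdealOf z).asIdeal := by
  rw [← PrimeSpectrum.mem_basicOpen]
  conv_rhs => rw [← hD.fromSpec_preimage_basicOpen]
  show _ ↔ hD.fromSpec (hD.primeIdealOf z) ∈ X₀.basicOpen s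
  rw [hD.fromSpec_primeIdealOf]

/-- a function vanishing at a closed point and at no generic point -/
theorem exists_fun {D : X₀.Opens} (hD : IsAffineOpen D) (G : Finset {z : X₀ // z ∈ D}) (x : D)
    (hx : IsClosed ({x.1} : Set X₀)) (hG : ∀ η ∈ G, η.1 ≠ x.1) :
    ∃ s : Γ(X₀, D), x.1 ∉ X₀.basicOpen s ∧ ∀ η ∈ G, η.1 ∈ X₀.basicOpen s := by
  have hnot : ¬ ((hD.primeIdealOf x).asIdeal : Set Γ(X₀, D)) ⊆
      ⋃ η ∈ (↑G : Set {z : X₀ // z ∈ D}), ((hD.primeIdealOf η).asIdeal : Set Γ(X₀, D)) := by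
    intro hsub
    obtain ⟨η, hη, hle⟩ := (Ideal.subset_union_prime (s := G) (f := fun η => (hD.primeIdealOf η).asIdeal)
      x x (fun η _ _ _ => (hD.primeIdealOf η).2)).mp hsub
    have h1 := ((PrimeSpectrum.le_iff_specializes _ _).mp
      (hle : hD.primeIdealOf x ≤ hD.primeIdealOf η)).map hD.fromSpec.continuous
    rw [hD.fromSpec_primeIdealOf, hD.fromSpec_primeIdealOf] at h1
    have h2 := specializes_iff_mem_closure.mp h1
    rw [hx.closure_eq] at h2
    exact hG η hη h2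
  obtain ⟨s, hs, hsn⟩ := Set.not_subset.mp hnot
  refine ⟨s, fun h => (mem_basicOpen_iff hD x s).mp h hs, fun η hη => (mem_basicOpen_iff hD η s).mpr fun h => ?_⟩
  exact hsn (Set.mem_biUnion (Finset.mem_coe.mpr hη) h)

/-- a dense open with a generator, whose complement consists of finitely many closed points -/
theorem exists_dense_gen [IsNoetherian X₀] (hd : topologicalKrullDim X₀ ≤ 1) (L : X₀.Modules)
    (hL : PicF.IsInvertible L) : ∃ (W : X₀.Opens) (e : Γ(L, W)) (G : Finset X₀),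
      Twist.IsGen L W e ∧ (∀ z : X₀, z ∉ W → IsClosed ({z} : Set X₀)) ∧ ((W : Set X₀)ᶜ).Finite ∧
      (∀ η ∈ G, η ∈ W) ∧ ∀ z : X₀, z ∉ G → IsClosed ({z} : Set X₀) := by
  classical
  haveI : NoetherianSpace X₀ := inferInstance
  have hfin := NoetherianSpace.finite_irreducibleComponents (α := X₀)
  let K := irreducibleComponents X₀
  let gp : K → X₀ := fun C => C.2.1.genericPoint
  have hgp : ∀ C : K, IsGenericPoint (gp C) C.1 := fun C =>
    IsIrreducible.isGenericPoint_genericPoint _ (isClosed_of_mem_irreducibleComponents _ C.2)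
  have htriv : ∀ C : K, ∃ (U : X₀.Opens) (e : Γ(L, U)), gp C ∈ U ∧ Twist.IsGen L U e := fun C => by
    obtain ⟨U, e, h1, -, -, h2⟩ := Amp.exists_isGenerator hL (V := ⊤) (x := gp C) trivial
    exact ⟨U, e, h1, h2⟩
  choose U e hU he using htriv
  let others : K → Set X₀ := fun C => ⋃₀ {C' ∈ K | C' ≠ C.1}
  have hoc : ∀ C, IsClosed (others C) := fun C => by
    show IsClosed (⋃₀ _)
    rw [Set.sUnion_eq_biUnion]
    exact (hfin.subset fun _ h => h.1).isClosed_biUnion fun C' h =>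
      isClosed_of_mem_irreducibleComponents _ h.1
  let O : K → X₀.Opens := fun C => U C ⊓ ⟨(others C)ᶜ, (hoc C).isOpen_compl⟩
  have hgO : ∀ C, gp C ∈ O C := fun C => ⟨hU C, fun ⟨C', ⟨hC', hne⟩, hm⟩ => hne
    (le_antisymm (C.2.2 hC'.1 ((hgp C).def ▸ closure_minimal (Set.singleton_subset_iff.mpr hm)
      (isClosed_of_mem_irreducibleComponents _ hC')))
      ((hgp C).def ▸ closure_minimal (Set.singleton_subset_iff.mpr hm)
      (isClosed_of_mem_irreducibleComponents _ hC')))⟩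
  have hdisj : ∀ C C' : K, C ≠ C' → ∀ z, z ∈ O C → z ∈ O C' → False := by
    intro C C' hne z hz hz'
    obtain ⟨D, hD, hzD⟩ : ∃ D ∈ K, z ∈ D :=
      ⟨_, irreducibleComponent_mem_irreducibleComponents z, mem_irreducibleComponent⟩
    have h1 : D = C.1 := by_contra fun h => hz.2 ⟨D, ⟨hD, h⟩, hzD⟩
    have h2 : D = C'.1 := by_contra fun h => hz'.2 ⟨D, ⟨hD, h⟩, hzD⟩
    exact hne (Subtype.ext (h1.symm.trans h2))
  let W : X₀.Opens := iSup O
  obtain ⟨s, hs, -⟩ := TopCat.Sheaf.existsUnique_gluing' ⟨L.presheaf, L.isSheaf⟩ O W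
    (fun C => homOfLE (le_iSup O C)) le_rfl (fun C => M1.mres L inf_le_left (e C)) (fun C C' => by
      rcases eq_or_ne C C' with rfl | hne
      · rfl
      · refine M1.modules_eq_of_locally_eq L (O C ⊓ O C') (fun z : PEmpty.{u + 1} => z.elim) (fun z => z.elim)
          (fun z hz => (hdisj C C' hne z hz.1 hz.2).elim) _ _ (fun z => z.elim))
  let s' : Γ(L, W) := s
  have hgen : Twist.IsGen L W s' := Twist.isGen_of_stalk fun z hz => by
    obtain ⟨C, hC⟩ := Opens.mem_iSup.mp hz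
    have hgerm : (L.presheaf.germ W z hz s' : L.presheaf.stalk z) =
        L.presheaf.germ (O C) z hC (M1.mres L inf_le_left (e C)) := by
      rw [← show M1.mres L (le_iSup O C) s' = M1.mres L inf_le_left (e C) from hs C]
      exact (L.presheaf.germ_res_apply (homOfLE (le_iSup O C)) z hC s').symm
    rw [hgerm]
    exact (Twist.IsGen.mres (he C) inf_le_left).stalk hC
  let G : Finset X₀ := (hfin.toFinset.attach).image fun C => gp ⟨C.1, hfin.mem_toFinset.mp C.2⟩
  have hG : ∀ C : K, gp C ∈ G := fun C =>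
    Finset.mem_image.mpr ⟨⟨C.1, hfin.mem_toFinset.mpr C.2⟩, Finset.mem_attach _ _, rfl⟩
  have hclosed : ∀ z : X₀, z ∉ G → IsClosed ({z} : Set X₀) := fun z hz => by
    let C : K := ⟨_, irreducibleComponent_mem_irreducibleComponents z⟩
    exact isClosed_singleton_of_dim_le_one hd
      ((hgp C).specializes mem_irreducibleComponent) fun h => hz (h ▸ hG C)
  have hGW : ∀ η ∈ G, η ∈ W := fun η hη => by
    obtain ⟨C, -, rfl⟩ := Finset.mem_image.mp hη
    exact Opens.mem_iSup.mpr ⟨_, hgO _⟩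
  have hWc : ∀ z : X₀, z ∉ W → IsClosed ({z} : Set X₀) := fun z hz => hclosed z fun h => hz (hGW z h)
  exact ⟨W, s', G, hgen, hWc, finite_of_closed_points W.2.isClosed_compl hWc, hGW, hclosed⟩

variable {X : Scheme.{u}}

/-- The lift of the transition function at one point outside the dense open. -/
theorem exists_local_lift [IsNoetherian X] [IsNoetherian X₀] (i : X₀ ⟶ X) [IsClosedImmersion i]
    (hb : ∀ Y : Set X, IsClosed Y → Y.Nonempty → _root_.IsConnected Y →
      (Y ∩ Set.range i.base).Nonempty ∧ _root_.IsConnected (Y ∩ Set.range i.base))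
    (L : X₀.Modules) (hL : PicF.IsInvertible L) (W : X₀.Opens) (e₀ : Γ(L, W))
    (he₀ : Twist.IsGen L W e₀) (hfin : ((W : Set X₀)ᶜ).Finite)
    (hWc : ∀ z : X₀, z ∉ W → IsClosed ({z} : Set X₀))
    (G : Finset X₀) (hGW : ∀ η ∈ G, η ∈ W) (hG : ∀ z : X₀, z ∉ G → IsClosed ({z} : Set X₀))
    (x : X₀) (hx : x ∉ W) :
    ∃ (U B : X.Opens) (e : Γ(L, i ⁻¹ᵁ U)) (h : Γ(X, U ⊓ B)ˣ),
      i x ∈ U ∧ i x ∉ B ∧ IsClosed ((U : Set X) \ B) ∧ ((U : Set X) \ B) ∩ Set.range i.base ⊆ {i x} ∧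
      Twist.IsGen L (i ⁻¹ᵁ U) e ∧ ∃ hle : i ⁻¹ᵁ (U ⊓ B) ≤ W,
        M1.mres L (i.preimage_mono inf_le_left : i ⁻¹ᵁ (U ⊓ B) ≤ i ⁻¹ᵁ U) e =
          i.app (U ⊓ B) h • M1.mres L hle e₀ := by
  classical
  obtain ⟨U₀, e', hxU₀, -, -, he'⟩ := Amp.exists_isGenerator hL (V := ⊤) (x := x) trivial
  obtain ⟨O, hO, hOU⟩ := i.isClosedEmbedding.isInducing.isOpen_iff.mp U₀.2
  let bad : Set X := i.base '' (((W : Set X₀)ᶜ) \ {x})
  have hbad : IsClosed bad := by
    show IsClosed (i.base '' _)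
    rw [← Set.biUnion_of_singleton (i.base '' _)]
    refine (hfin.sdiff.image _).isClosed_biUnion ?_
    rintro _ ⟨z, hz, rfl⟩
    rw [← Set.image_singleton]
    exact i.isClosedEmbedding.isClosedMap _ (hWc z hz.1)
  obtain ⟨U₁, hU₁, hxU₁, hU₁O⟩ := exists_isAffineOpen_mem_and_subset (X := X) (x := i x)
    (U := ⟨O \ bad, hO.sdiff hbad⟩)
    (show i x ∈ O \ bad from ⟨(Set.ext_iff.mp hOU x).mpr hxU₀, fun ⟨z, hz, hzx⟩ =>
      hz.2 (i.isClosedEmbedding.injective hzx)⟩)
  let D := i ⁻¹ᵁ U₁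
  have hDU : D ≤ U₀ := fun z hz => (Set.ext_iff.mp hOU z).mp (hU₁O hz).1
  have hDF : ∀ z ∈ D, z ∉ W → z = x := fun z hz hzW =>
    by_contra fun h => (hU₁O hz).2 ⟨z, ⟨hzW, h⟩, rfl⟩
  have hD : IsAffineOpen D := hU₁.preimage i
  let G' : Finset {z : X₀ // z ∈ D} := G.subtype (fun z => z ∈ D)
  obtain ⟨s, hsx, hsG⟩ := exists_fun hD G' ⟨x, hxU₁⟩ (hWc x hx) fun η hη h =>
    hx (by rw [← (show η.1 = x from h)]; exact hGW η.1 (Finset.mem_subtype.mp hη))
  let Ds := X₀.basicOpen s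
  have hDsD : Ds ≤ D := X₀.basicOpen_le s
  have hDsW : Ds ≤ W := fun z hz => by_contra fun h => hsx (hDF z (hDsD hz) h ▸ hz)
  -- the zero set of `s` consists of finitely many closed points
  have hzero : ∀ z ∈ D, z ∉ Ds → IsClosed ({z} : Set X₀) := fun z hz hzs => hG z fun h =>
    hzs (hsG ⟨z, hz⟩ (Finset.mem_subtype.mpr h))
  have hzfin : ((D : Set X₀) \ Ds).Finite := by
    haveI : NoetherianSpace (D : Set X₀) := NoetherianSpace.set _
    haveI : QuasiSober (D : Set X₀) := D.2.isOpenEmbedding_subtypeVal.quasiSober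
    have hcl : IsClosed (Subtype.val ⁻¹' ((Ds : Set X₀)ᶜ) : Set (D : Set X₀)) :=
      Ds.2.isClosed_compl.preimage continuous_subtype_val
    refine ((finite_of_closed_points hcl fun z hz => ?_).image Subtype.val).subset ?_
    · have : ({z} : Set (D : Set X₀)) = Subtype.val ⁻¹' {z.1} := by
        ext y; exact ⟨fun h => congrArg Subtype.val h, fun h => Subtype.ext h⟩
      rw [this]
      exact (hzero z.1 z.2 hz).preimage continuous_subtype_val
    · rintro z ⟨hz, hzs⟩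
      exact ⟨⟨z, hz⟩, hzs, rfl⟩
  -- the transition function
  let eD := M1.mres L hDU e'
  have heD : Twist.IsGen L D eD := Twist.IsGen.mres he' hDU
  obtain ⟨g, hg⟩ := (heD Ds hDsD).2 (M1.mres L hDsW e₀)
  obtain ⟨g', hg'⟩ := (he₀ Ds hDsW).2 (M1.mres L hDsD eD)
  simp only at hg hg'
  have hgg : g' * g = 1 := (he₀ Ds hDsW).1 (by
    show (g' * g) • M1.mres L hDsW e₀ = (1 : Γ(X₀, Ds)) • _
    rw [one_smul, mul_comm, mul_smul, hg', hg])
  haveI := hD.isLocalization_basicOpen s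
  obtain ⟨n, a, ha⟩ := IsLocalization.Away.surj s (S := Γ(X₀, Ds)) g
  obtain ⟨A, rfl⟩ := i.app_surjective U₁ hU₁ a
  obtain ⟨S, rfl⟩ := i.app_surjective U₁ hU₁ s
  have halg : ∀ r, algebraMap Γ(X₀, D) Γ(X₀, Ds) r = rs hDsD r := fun r => rfl
  rw [halg, halg] at ha
  have hsu : IsUnit (rs hDsD (i.app U₁ S)) := by
    rw [← halg]; exact IsLocalization.Away.algebraMap_isUnit _
  -- shrink away from the other zeros
  let others : Set X := i.base '' (((D : Set X₀) \ Ds) \ {x})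
  have hothers : IsClosed others := by
    show IsClosed (i.base '' _)
    rw [← Set.biUnion_of_singleton (i.base '' _)]
    refine (hzfin.sdiff.image _).isClosed_biUnion ?_
    rintro _ ⟨z, hz, rfl⟩
    rw [← Set.image_singleton]
    exact i.isClosedEmbedding.isClosedMap _ (hzero z hz.1.1 hz.1.2)
  let B : X.Opens := X.basicOpen (A * S)
  have hBs : i ⁻¹ᵁ B ≤ Ds := by
    rw [show i ⁻¹ᵁ B = X₀.basicOpen (i.app U₁ (A * S)) from Scheme.preimage_basicOpen i _, map_mul,
      Scheme.basicOpen_mul]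
    exact inf_le_right
  have hBs' : Ds ≤ i ⁻¹ᵁ B := by
    rw [show i ⁻¹ᵁ B = X₀.basicOpen (i.app U₁ (A * S)) from Scheme.preimage_basicOpen i _, map_mul,
      Scheme.basicOpen_mul]
    refine le_inf ?_ le_rfl
    have hu : IsUnit (rs hDsD (i.app U₁ A)) := by
      rw [← ha]
      exact (IsUnit.of_mul_eq_one g' ((mul_comm _ _).trans hgg)).mul (hsu.pow n)
    calc Ds = X₀.basicOpen (rs hDsD (i.app U₁ A)) := (Scheme.basicOpen_of_isUnit _ hu).symm
      _ ≤ X₀.basicOpen (i.app U₁ A) := by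
        rw [show X₀.basicOpen (rs hDsD (i.app U₁ A)) = Ds ⊓ X₀.basicOpen (i.app U₁ A) from
          Scheme.basicOpen_res _ _ _]
        exact inf_le_right
  have hxB : i x ∉ B := fun h => hsx (hBs h)
  obtain ⟨U', hU'o, hU'le, hxU', hU'cl⟩ := exists_nhd_closed (Set.range i.base) hb
    (U₁.2.sdiff hothers) B.2 (p := i x)
    ⟨hxU₁, fun ⟨z, hz, hzx⟩ => hz.2 (i.isClosedEmbedding.injective hzx)⟩
    (by rw [← Set.image_singleton]; exact i.isClosedEmbedding.isClosedMap _ (hWc x hx))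
    ⟨x, rfl⟩ hxB (by
      rintro _ ⟨⟨⟨hzU, hzo⟩, hzB⟩, z, rfl⟩
      by_contra hzx
      exact hzo ⟨z, ⟨⟨hzU, fun h => hzB (hBs' h)⟩, fun h => hzx (congrArg i.base h)⟩, rfl⟩)
  let U : X.Opens := ⟨U', hU'o⟩
  have hUU₁ : U ≤ U₁ := fun z hz => (hU'le hz).1
  have hR : U ⊓ B ≤ U₁ := inf_le_left.trans hUU₁
  have hu : IsUnit (rs hR (A * S)) := by
    have h1 := (X.toRingedSpace.isUnit_res_basicOpen (A * S)).map (rs (inf_le_right : U ⊓ B ≤ B))
    rw [← rs_rs (X.basicOpen_le (A * S)) (inf_le_right : U ⊓ B ≤ B) (A * S)]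
    exact h1
  rw [map_mul] at hu
  obtain ⟨hA, hS⟩ := IsUnit.mul_iff.mp hu
  let h : Γ(X, U ⊓ B)ˣ := (hS.pow n).unit * hA.unit⁻¹
  have hle : i ⁻¹ᵁ (U ⊓ B) ≤ Ds := (i.preimage_mono inf_le_right).trans hBs
  refine ⟨U, B, M1.mres L (i.preimage_mono hUU₁) eD, h, hxU', hxB, hU'cl, ?_,
    Twist.IsGen.mres heD _, hle.trans hDsW, ?_⟩
  · rintro _ ⟨⟨hzU, hzB⟩, z, rfl⟩
    by_contra hzx
    exact (hU'le hzU).2 ⟨z, ⟨⟨hUU₁ hzU, fun h => hzB (hBs' h)⟩, fun h => hzx (congrArg i.base h)⟩, rfl⟩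
  · have h1 := congrArg (M1.mres L hle) hg
    rw [M1.mres_smul, M1.mres_mres, M1.mres_mres] at h1
    have h2 : rs hle g * i.app (U ⊓ B) (h : Γ(X, U ⊓ B)) = 1 := by
      have hA' : IsUnit (i.app (U ⊓ B) (rs hR A)) := hA.map _
      refine hA'.mul_left_cancel ?_
      rw [mul_one]
      calc i.app (U ⊓ B) (rs hR A) * (rs hle g * i.app (U ⊓ B) (h : Γ(X, U ⊓ B)))
          = rs hle g * i.app (U ⊓ B) (rs hR A * (h : Γ(X, U ⊓ B))) := by rw [map_mul]; ring
        _ = rs hle g * i.app (U ⊓ B) (rs hR S ^ n) := by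
          congr 2
          simp only [h, Units.val_mul, IsUnit.unit_spec]
          rw [mul_comm, mul_assoc, IsUnit.val_inv_mul, mul_one]
        _ = i.app (U ⊓ B) (rs hR A) := by
          rw [map_pow, app_rs, app_rs, ← rs_rs hDsD hle, ← rs_rs hDsD hle, ← map_pow (rs hle),
            ← map_mul]
          exact congrArg (rs hle) ha
    simp only [eD, M1.mres_mres] at h1 ⊢
    rw [← h1, ← mul_smul, mul_comm]
    erw [h2, one_smul]
    exact M1.mres_mres L _ _ _

/-- Lifting invertible modules. -/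
theorem exists_lift [IsNoetherian X] [IsNoetherian X₀] (i : X₀ ⟶ X) [IsClosedImmersion i]
    (hd : topologicalKrullDim X₀ ≤ 1)
    (hb : ∀ Y : Set X, IsClosed Y → Y.Nonempty → _root_.IsConnected Y →
      (Y ∩ Set.range i.base).Nonempty ∧ _root_.IsConnected (Y ∩ Set.range i.base))
    (L : X₀.Modules) (hL : PicF.IsInvertible L) :
    ∃ L' : X.Modules, PicF.IsInvertible L' ∧ Nonempty ((Scheme.Modules.pullback i).obj L' ≅ L) := by
  classical
  obtain ⟨W, e₀, G, he₀, hWc, hfin, hGW, hG⟩ := exists_dense_gen hd L hL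
  let F : Set X₀ := (W : Set X₀)ᶜ
  choose U B e h hxU hxB hcl hZR he hle heq using fun x : F =>
    exists_local_lift i hb L hL W e₀ he₀ hfin hWc G hGW hG x.1 x.2
  let Z : F → Set X := fun x => (U x : Set X) \ B x
  haveI : Finite F := hfin.to_subtype
  let main : X.Opens := ⟨(⋃ x, Z x)ᶜ, (isClosed_iUnion_of_finite hcl).isOpen_compl⟩
  let rest : F → X.Opens := fun x => ⟨(⋃ y : {y : F // y ≠ x}, Z y.1)ᶜ,
    (isClosed_iUnion_of_finite fun y : {y : F // y ≠ x} => hcl y.1).isOpen_compl⟩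
  let V : Option F → X.Opens := fun o => o.elim main (fun x => U x ⊓ rest x)
  have hVB : ∀ x, V (some x) ⊓ main ≤ U x ⊓ B x := fun x z hz =>
    ⟨hz.1.1, by_contra fun hzB => hz.2 (Set.mem_iUnion.mpr ⟨x, hz.1.1, hzB⟩)⟩
  have hne : ∀ o o', o ≠ o' → V o ⊓ V o' ≤ main := by
    rintro (_ | x) (_ | y) hoy
    · exact absurd rfl hoy
    · exact inf_le_left
    · exact inf_le_right
    · intro z hz hzZ
      obtain ⟨w, hw⟩ := Set.mem_iUnion.mp hzZ
      by_cases hwx : w = x
      · subst hwx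
        exact hz.2.2 (Set.mem_iUnion.mpr ⟨⟨w, fun h => hoy (congrArg some h)⟩, hw⟩)
      · exact hz.1.2 (Set.mem_iUnion.mpr ⟨⟨w, hwx⟩, hw⟩)
  have hcov : iSup V = ⊤ := top_le_iff.1 fun z _ => by
    by_cases hz : z ∈ main
    · exact Opens.mem_iSup.2 ⟨none, hz⟩
    · obtain ⟨x, hx⟩ := Set.mem_iUnion.mp (not_not.mp hz)
      refine Opens.mem_iSup.2 ⟨some x, hx.1, fun hzr => ?_⟩
      obtain ⟨⟨y, hy⟩, hy'⟩ := Set.mem_iUnion.mp hzr
      -- two of the closed sets are disjoint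
      obtain ⟨r, hr, hrR⟩ := (hb (closure {z}) isClosed_closure ⟨z, subset_closure rfl⟩
        isIrreducible_singleton.closure.isConnected).1
      have h1 := hZR x ⟨closure_minimal (Set.singleton_subset_iff.mpr hx) (hcl x) hr, hrR⟩
      have h2 := hZR y ⟨closure_minimal (Set.singleton_subset_iff.mpr hy') (hcl y) hr, hrR⟩
      exact hy (Subtype.ext (i.isClosedEmbedding.injective (h2.symm.trans h1)))
  have hWmain : i ⁻¹ᵁ main ≤ W := fun z hz => by
    by_contra hzW
    exact hz (Set.mem_iUnion.mpr ⟨⟨z, hzW⟩, hxU ⟨z, hzW⟩, hxB ⟨z, hzW⟩⟩)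
  let res : ∀ {O O' : X.Opens}, O' ≤ O → Γ(X, O)ˣ →* Γ(X, O')ˣ := fun hO =>
    Units.map (rs hO).toMonoidHom
  let H : ∀ o, Γ(X, V o ⊓ main)ˣ := fun o => match o with
    | none => 1
    | some x => res (hVB x) (h x)
  let η : ∀ o o', Γ(X, V o ⊓ V o')ˣ := fun o o' =>
    if hoo : o = o' then 1 else
      res (le_inf inf_le_left (hne o o' hoo)) (H o) * (res (le_inf inf_le_right (hne o o' hoo)) (H o'))⁻¹
  have hη : ∀ (o o' : Option F) (T : X.Opens) (ho : T ≤ V o) (ho' : T ≤ V o') (hm : T ≤ main),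
      res (le_inf ho ho') (η o o') = res (le_inf ho hm) (H o) * (res (le_inf ho' hm) (H o'))⁻¹ := by
    intro o o' T ho ho' hm
    simp only [η]
    split
    · next hoo => subst hoo; rw [map_one, mul_inv_cancel]
    · have hrr : ∀ {O O' O'' : X.Opens} (h₁ : O' ≤ O) (h₂ : O'' ≤ O') (u : Γ(X, O)ˣ),
          res h₂ (res h₁ u) = res (h₂.trans h₁) u := fun h₁ h₂ u => Units.ext (rs_rs h₁ h₂ _)
      rw [map_mul, map_inv, hrr, hrr]
  obtain ⟨L', S, hL', hS, hSη⟩ := PicCoc15.exists_realizing V hcov η (fun a b c => by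
    have key : ∀ (T : X.Opens) (ha : T ≤ V a) (hb' : T ≤ V b) (hc : T ≤ V c),
        res (le_inf ha hc) (η a c) = res (le_inf ha hb') (η a b) * res (le_inf hb' hc) (η b c) := by
      intro T ha hb' hc
      rcases eq_or_ne a b with rfl | hab
      · simp [η]
      rcases eq_or_ne b c with rfl | hbc
      · simp [η]
      have hm : T ≤ main := (le_inf ha hb').trans (hne a b hab)
      rw [hη a c T ha hc hm, hη a b T ha hb' hm, hη b c T hb' hc hm]
      group
    exact congrArg Units.val (key (V a ⊓ V b ⊓ V c) (inf_le_left.trans inf_le_left)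
      (inf_le_left.trans inf_le_right) inf_le_right))
  refine ⟨L', hL', ?_⟩
  let P := fun o => M2.pullSec i L' (S o)
  let E : ∀ o, Γ(L, i ⁻¹ᵁ V o) := fun o => match o with
    | none => M1.mres L hWmain e₀
    | some x => M1.mres L (i.preimage_mono (inf_le_left : U x ⊓ rest x ≤ U x)) (e x)
  have hP : ∀ o, Twist.IsGen _ (i ⁻¹ᵁ V o) (P o) := fun o => (hS o).pullback i
  have hE : ∀ o, Twist.IsGen L (i ⁻¹ᵁ V o) (E o) := fun o => match o with
    | none => Twist.IsGen.mres he₀ hWmain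
    | some x => Twist.IsGen.mres (he x) _
  have hEH : ∀ o, M1.mres L (i.preimage_mono (inf_le_left : V o ⊓ main ≤ V o)) (E o) =
      i.app (V o ⊓ main) (H o : Γ(X, V o ⊓ main)) •
        M1.mres L ((i.preimage_mono inf_le_right).trans hWmain) e₀ := fun o => match o with
    | none => by
      show M1.mres L _ (M1.mres L hWmain e₀) = i.app _ (Units.val (1 : Γ(X, V none ⊓ main)ˣ)) • _
      rw [M1.mres_mres, Units.val_one, map_one, one_smul]
    | some x => by
      have h1 := congrArg (M1.mres L (i.preimage_mono (hVB x))) (heq x)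
      rw [M1.mres_smul, M1.mres_mres, M1.mres_mres] at h1
      show M1.mres L _ (M1.mres L _ (e x)) = _
      rw [M1.mres_mres]
      refine h1.trans ?_
      congr 1
      exact (app_rs i (hVB x) (h x : Γ(X, U x ⊓ B x))).symm
  refine ⟨(Twist.exists_iso_of_gen (fun o => i ⁻¹ᵁ V o)
    (by rw [← Scheme.Hom.preimage_iSup, hcov, Scheme.Hom.preimage_top]) P E hP hE ?_).choose⟩
  intro o o' T ho ho' t ht
  rcases eq_or_ne o o' with rfl | hoo
  · have : t = 1 := (hP o T ho).1 (show t • _ = (1 : Γ(X₀, T)) • _ by rw [one_smul]; exact ht.symm)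
    rw [this, one_smul]
  have key : ∀ {O O' : X.Opens} (hO : O' ≤ O) (r : Γ(L', O)),
      M1.mres ((Scheme.Modules.pullback i).obj L') (i.preimage_mono hO) (M2.pullSec i L' r) =
        M2.pullSec i L' (M1.mres L' hO r) := fun hO r =>
    (M1.app_mres ((Scheme.Modules.pullbackPushforwardAdjunction i).unit.app L') hO r).symm
  have hT : T ≤ i ⁻¹ᵁ (V o ⊓ V o') := le_inf ho ho'
  let c : Γ(X₀, T) := rs hT (i.app (V o ⊓ V o') (η o o' : Γ(X, V o ⊓ V o')))
  have h1 : M1.mres _ ho (P o) = c • M1.mres _ ho' (P o') := by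
    have h0 : M1.mres _ (i.preimage_mono (inf_le_left : V o ⊓ V o' ≤ V o)) (P o) =
        i.app (V o ⊓ V o') (η o o' : Γ(X, V o ⊓ V o')) •
          M1.mres _ (i.preimage_mono (inf_le_right : V o ⊓ V o' ≤ V o')) (P o') := by
      refine (key inf_le_left _).trans ?_
      rw [hSη o o', M2.pullSec_smul]
      exact congrArg _ (key inf_le_right _).symm
    have := congrArg (M1.mres _ hT) h0
    erw [M1.mres_mres, M1.mres_smul, M1.mres_mres] at this
    exact this
  have hm : T ≤ i ⁻¹ᵁ main := hT.trans (i.preimage_mono (hne o o' hoo))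
  have h2 : M1.mres L ho (E o) = c • M1.mres L ho' (E o') := by
    have ha := congrArg (M1.mres L (le_inf ho hm : T ≤ i ⁻¹ᵁ (V o ⊓ main))) (hEH o)
    have hb' := congrArg (M1.mres L (le_inf ho' hm : T ≤ i ⁻¹ᵁ (V o' ⊓ main))) (hEH o')
    erw [M1.mres_mres, M1.mres_smul, M1.mres_mres] at ha hb'
    rw [ha, hb', ← mul_smul]
    congr 1
    have hcross := congrArg Units.val (hη o o' (V o ⊓ V o') inf_le_left inf_le_right (hne o o' hoo))
    have hid : (res (le_inf inf_le_left inf_le_right : V o ⊓ V o' ≤ V o ⊓ V o') (η o o') :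
        Γ(X, V o ⊓ V o')) = (η o o' : Γ(X, V o ⊓ V o')) := by
      show rs _ _ = _
      exact M1.ores_id _ _
    rw [hid] at hcross
    have hc' : (η o o' : Γ(X, V o ⊓ V o')) * rs (le_inf inf_le_right (hne o o' hoo)) (H o' : Γ(X, V o' ⊓ main)) =
        rs (le_inf inf_le_left (hne o o' hoo)) (H o : Γ(X, V o ⊓ main)) := by
      rw [hcross, Units.val_mul, mul_assoc]
      exact (congrArg _ (Units.inv_mul _)).trans (mul_one _)
    have := congrArg (fun r => rs hT (i.app (V o ⊓ V o') r)) hc'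
    simp only [map_mul, app_rs, rs_rs] at this
    exact this.symm
  have htc : t * c = 1 := (hP o' T ho').1 (by
    show (t * c) • M1.mres _ ho' (P o') = (1 : Γ(X₀, T)) • _
    rw [mul_smul, ← h1, one_smul]; exact ht.symm)
  rw [h2, ← mul_smul, htc, one_smul]

end Groth.Agent.PicLift19
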