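import Mathlib.Topology.NoetherianSpace
import Mathlib.Topology.KrullDimension
import Mathlib.Topology.Sober

/-! Topology: finite closed sets of closed points, and Cartier-like closed sets near a closed point. -/

set_option autoImplicit false

universe u

open TopologicalSpace Order

namespace Groth.Agent.PicLift19

theorem finite_of_closed_points {X : Type u} [TopologicalSpace X] [NoetherianSpace X] [QuasiSober X]
    {T : Set X} (hT : IsClosed T) (h : ∀ z ∈ T, IsClosed ({z} : Set X)) : T.Finite := by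
  obtain ⟨S, hS, hSc, hSi, rfl⟩ := NoetherianSpace.exists_finite_set_isClosed_irreducible hT
  refine hS.sUnion fun C hC => ?_
  obtain ⟨z, hz⟩ := QuasiSober.sober (hSi C hC) (hSc C hC)
  have : C = {z} := by rw [← hz.def, (h z ⟨C, hC, hz.mem⟩).closure_eq]
  rw [this]; exact Set.finite_singleton z

/-- in dimension at most one a point strictly below another one is closed -/
theorem isClosed_singleton_of_dim_le_one {X : Type u} [TopologicalSpace X] [T0Space X]
    (hd : topologicalKrullDim X ≤ 1) {z η : X} (h : η ⤳ z) (hne : η ≠ z) : IsClosed ({z} : Set X) := by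
  rw [← closure_subset_iff_isClosed]
  intro w hw
  by_contra hwz
  rw [Set.mem_singleton_iff] at hwz
  let c : X → IrreducibleCloseds X := fun p => ⟨closure {p}, isIrreducible_singleton.closure, isClosed_closure⟩
  have hlt : ∀ p q : X, p ⤳ q → p ≠ q → c q < c p := fun p q hpq hne => by
    refine lt_of_le_of_ne (specializes_iff_closure_subset.mp hpq) fun e => hne ?_
    exact (inseparable_iff_closure_eq.mpr (congrArg IrreducibleCloseds.carrier e).symm).eq
  have h1 : c w < c z := hlt z w (specializes_iff_mem_closure.mpr hw) (Ne.symm hwz)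
  have h2 : c z < c η := hlt η z h hne
  let p : LTSeries (IrreducibleCloseds X) :=
    { length := 2
      toFun := ![c w, c z, c η]
      step := fun i => by fin_cases i <;> simpa }
  have h3 := (p.length_le_krullDim).trans hd
  change ((2 : ℕ) : WithBot ℕ∞) ≤ ((1 : ℕ) : WithBot ℕ∞) at h3
  exact absurd (Nat.cast_le.mp h3) (by omega)

/-- Near a closed point of `R` a locally closed set meeting `R` only there is closed. -/
theorem exists_nhd_closed {X : Type u} [TopologicalSpace X] [NoetherianSpace X] (R : Set X)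
    (hb : ∀ Y : Set X, IsClosed Y → Y.Nonempty → _root_.IsConnected Y →
      (Y ∩ R).Nonempty ∧ _root_.IsConnected (Y ∩ R))
    {U B : Set X} (hU : IsOpen U) (hB : IsOpen B) {p : X} (hpU : p ∈ U) (hp : IsClosed ({p} : Set X))
    (hpR : p ∈ R) (hpB : p ∉ B) (hsub : (U \ B) ∩ R ⊆ {p}) :
    ∃ U' : Set X, IsOpen U' ∧ U' ⊆ U ∧ p ∈ U' ∧ IsClosed (U' \ B) := by
  obtain ⟨S, hS, hSc, hSi, hSe⟩ :=
    NoetherianSpace.exists_finite_set_isClosed_irreducible (isClosed_closure (s := U \ B))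
  let bad : Set X := ⋃₀ {C ∈ S | p ∉ C}
  have hbadc : IsClosed bad := by
    show IsClosed (⋃₀ _)
    rw [Set.sUnion_eq_biUnion]
    exact (hS.subset fun _ h => h.1).isClosed_biUnion fun C hC => hSc C hC.1
  have hCU : ∀ C ∈ S, p ∈ C → C ∩ U ⊆ U \ B := fun C hC _ z hz => by
    refine ⟨hz.2, fun hzB => ?_⟩
    have hzc : z ∈ closure (U \ B) := hSe ▸ ⟨C, hC, hz.1⟩
    obtain ⟨w, ⟨hwU, hwB⟩, hw⟩ := mem_closure_iff.mp hzc (U ∩ B) (hU.inter hB) ⟨hz.2, hzB⟩
    exact hw.2 hwB
  have hgen : ∀ C ∈ S, p ∈ C → ∀ z ∈ C, z ⤳ p := by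
    intro C hC hpC z hz
    have hcon := (hb C (hSc C hC) ⟨p, hpC⟩ (hSi C hC).isConnected).2
    have hCR : C ∩ R ⊆ {p} := by
      intro q hq
      by_contra hqp
      obtain ⟨r, hr, hrU, hrp⟩ := hcon.2 U {p}ᶜ hU hp.isOpen_compl
        (fun x _ => by
          by_cases hx : x = p
          · exact Or.inl (hx ▸ hpU)
          · exact Or.inr hx)
        ⟨p, ⟨hpC, hpR⟩, hpU⟩ ⟨q, hq, hqp⟩
      exact hrp (hsub ⟨hCU C hC hpC ⟨hr.1, hrU⟩, hr.2⟩)
    obtain ⟨r, hr⟩ := (hb (closure {z}) isClosed_closure ⟨z, subset_closure rfl⟩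
      isIrreducible_singleton.closure.isConnected).1
    have : r = p := hCR ⟨closure_minimal (Set.singleton_subset_iff.mpr hz) (hSc C hC) hr.1, hr.2⟩
    exact specializes_iff_mem_closure.mpr (this ▸ hr.1)
  let U' := U \ bad
  have hpU' : p ∈ U' := ⟨hpU, fun ⟨C, hC, hpC⟩ => hC.2 hpC⟩
  refine ⟨U', hU.sdiff hbadc, Set.sdiff_subset, hpU', ?_⟩
  have : U' \ B = ⋃₀ {C ∈ S | p ∈ C} := by
    ext z
    constructor
    · rintro ⟨⟨hzU, hzb⟩, hzB⟩
      have hz : z ∈ ⋃₀ S := hSe ▸ subset_closure ⟨hzU, hzB⟩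
      obtain ⟨C, hC, hzC⟩ := hz
      exact ⟨C, ⟨hC, by_contra fun hpC => hzb ⟨C, ⟨hC, hpC⟩, hzC⟩⟩, hzC⟩
    · rintro ⟨C, ⟨hC, hpC⟩, hzC⟩
      have hzU' : z ∈ U' := (hgen C hC hpC z hzC).mem_open (hU.sdiff hbadc) hpU'
      exact ⟨hzU', (hCU C hC hpC ⟨hzC, hzU'.1⟩).2⟩
  rw [this, Set.sUnion_eq_biUnion]
  exact (hS.subset fun _ h => h.1).isClosed_biUnion fun C hC => hSc C hC.1

end Groth.Agent.PicLift19
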