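import Groth.Agent.Lib.PicLift19.Main
import Groth.Agent.Lib.HensProper6.Apps
import Groth.Agent.Lib.Hens.Local

/-! Closed connected sets of a proper scheme over a henselian local ring meet the closed fibre connectedly. -/

set_option autoImplicit false
universe u

open CategoryTheory AlgebraicGeometry TopologicalSpace

namespace Groth.Agent.PicLift19

open Groth.Agent

theorem inter_closedFibre_isConnected {A : Type u} [CommRing A] [HenselianLocalRing A] {X : Scheme.{u}}
    (f : X ⟶ Spec (CommRingCat.of A)) [IsProper f] (Y : Set X) (hY : IsClosed Y) (hne : Y.Nonempty)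
    (hc : _root_.IsConnected Y) :
    (Y ∩ f.base ⁻¹' {IsLocalRing.closedPoint A}).Nonempty ∧
      _root_.IsConnected (Y ∩ f.base ⁻¹' {IsLocalRing.closedPoint A}) := by
  classical
  have hA : HenselianRing A (IsLocalRing.maximalIdeal A) := inferInstance
  have hz : PrimeSpectrum.zeroLocus (IsLocalRing.maximalIdeal A : Set A) = {IsLocalRing.closedPoint A} := by
    ext p
    constructor
    · intro hp
      exact PrimeSpectrum.ext ((IsLocalRing.maximalIdeal.isMaximal A).eq_of_le p.2.ne_top hp).symm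
    · rintro rfl
      exact le_refl (IsLocalRing.maximalIdeal A)
  let ι := (Scheme.IdealSheafData.vanishingIdeal (X := X) ⟨Y, hY⟩).subschemeι
  have hr : Set.range ι.base = Y := by
    rw [Scheme.IdealSheafData.range_subschemeι, Scheme.IdealSheafData.coe_support_vanishingIdeal]
    rfl
  have hne' : (Y ∩ f.base ⁻¹' {IsLocalRing.closedPoint A}).Nonempty := by
    rw [← Set.not_disjoint_iff_nonempty_inter]
    intro hd
    refine hne.ne_empty (HensProper6.eq_empty_of_isClosed hA f hY ?_)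
    rw [hz]
    exact hd
  refine ⟨hne', hne', fun a b ha hb hcov hna hnb => ?_⟩
  by_contra hab
  set S : Set _ := (ι ≫ f).base ⁻¹' PrimeSpectrum.zeroLocus (IsLocalRing.maximalIdeal A : Set A) with hSdef
  have hS : ∀ z, z ∈ S → ι.base z ∈ Y ∩ f.base ⁻¹' {IsLocalRing.closedPoint A} := fun z hz' =>
    ⟨hr.le ⟨z, rfl⟩, hz ▸ hz'⟩
  have hSc : IsClosed S := (PrimeSpectrum.isClosed_zeroLocus _).preimage (ι ≫ f).continuous
  have hd : ∀ z ∈ S, z ∈ ι.base ⁻¹' a → z ∈ ι.base ⁻¹' b → False := fun z hzS hza hzb =>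
    hab ⟨ι.base z, hS z hzS, hza, hzb⟩
  obtain ⟨W, hW, hPW, hWQ⟩ := HensProper6.exists_isClopen hA (ι ≫ f) (P := S \ ι.base ⁻¹' b)
    (Q := S \ ι.base ⁻¹' a) (hSc.sdiff (hb.preimage ι.continuous)) (hSc.sdiff (ha.preimage ι.continuous))
    (Set.disjoint_left.mpr fun z h1 h2 => (hcov (hS z h1.1)).elim h2.2 h1.2)
    (by
      ext z
      refine ⟨fun h => h.elim And.left And.left, fun hzS => ?_⟩
      by_cases hzb : z ∈ ι.base ⁻¹' b
      · exact Or.inr ⟨hzS, fun hza => hd z hzS hza hzb⟩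
      · exact Or.inl ⟨hzS, hzb⟩)
  have hi : Topology.IsClosedEmbedding ι.base := ι.isClosedEmbedding
  haveI : PreconnectedSpace ↥(Scheme.IdealSheafData.vanishingIdeal (X := X) ⟨Y, hY⟩).subscheme := by
    refine ⟨(hi.isInducing.isPreconnected_image).mp ?_⟩
    rw [Set.image_univ, hr]
    exact hc.isPreconnected
  obtain ⟨y, hy, hya⟩ := hna
  obtain ⟨y', hy', hyb⟩ := hnb
  obtain ⟨z, rfl⟩ := hr.ge hy.1
  obtain ⟨z', rfl⟩ := hr.ge hy'.1
  have hzS : z ∈ S := by
    rw [hSdef, Set.mem_preimage, hz]; exact hy.2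
  have hz'S : z' ∈ S := by
    rw [hSdef, Set.mem_preimage, hz]; exact hy'.2
  rcases isClopen_iff.mp hW with h | h
  · exact absurd (hPW ⟨hzS, fun hzb => hd z hzS hya hzb⟩) (h ▸ Set.notMem_empty z)
  · exact Set.disjoint_left.mp hWQ (h ▸ Set.mem_univ z') ⟨hz'S, fun hza => hd z' hz'S hza hyb⟩

end Groth.Agent.PicLift19
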